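import Cfsg.Agent.OddHalf.D4.HexFree.Facts
import Cfsg.Agent.OddHalf.Quat.RowHex
import Cfsg.Agent.HexModel.Main

/-!
# `G₂(q)`, `³D₄(q)`: `BFacts`

* **`bfacts`** : `BFacts (AA σ x)` for a hexagonal system in `G`;
* **`g2`**, **`d4`** : `BFacts K`, `K ≅ G₂(2^a)`, `a ≥ 2`, resp. `³D₄(2^a)`, `a ≥ 2`.
-/

set_option autoImplicit false
set_option maxHeartbeats 400000

namespace Cfsg.Agent.OddHalf.D4.HexFree

open Subgroup Cfsg.Lie Cfsg.Agent.StdRank2.Hex Cfsg.Agent.StdRank2.Hex.HexTwo Cfsg.Agent.SplitTwo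
open Cfsg.Agent.OddHalf.D4.Free

variable {E : Type*} [Field E] {σ : E ≃+* E} {G X : Type*} [Group G] [Group X]

theorem exists_fix {n : ℕ} [Finite E] (hn : 3 ≤ n) (h : n ≤ Nat.card {a : E // σ a = a}) :
    ∃ ω : E, σ ω = ω ∧ ω ≠ 0 ∧ ω ≠ 1 := by
  classical
  have : Fintype {a : E // σ a = a} := Fintype.ofFinite _
  rw [Nat.card_eq_fintype_card] at h
  by_contra hcon
  push Not at hcon
  have h1 : (Finset.univ : Finset {a : E // σ a = a}) ⊆ {⟨0, map_zero σ⟩, ⟨1, map_one σ⟩} := by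
    rintro ⟨b, hb⟩ -
    simp only [Finset.mem_insert, Finset.mem_singleton, Subtype.mk.injEq]
    by_cases h1 : b = 0
    · exact Or.inl h1
    · exact Or.inr (hcon b hb h1)
  have h2 := Finset.card_le_card h1
  rw [Finset.card_univ] at h2
  have h3 := h2.trans Finset.card_le_two
  omega

theorem notTwo_of' {ω : E} (hω : σ ω = ω) (hω0 : ω ≠ 0) (hω1 : ω ≠ 1) : NotTwo σ :=
  Or.inl ⟨ω, hω, fun e => by
    have e1 : ω * (ω - 1) = 0 := by linear_combination e
    rcases mul_eq_zero.1 e1 with h1 | h1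
    · exact hω0 h1
    · exact hω1 (sub_eq_zero.1 h1)⟩

/-- `AFacts` for a group generated by a hexagonal system -/
theorem exists_aFacts [Finite E] [Finite X] {x : ZMod 12 → E → X} (h : HexTwo σ x) (htop : AA σ x = ⊤)
    (hq : Nat.card {a : E // σ a = a} = 4 ∨ 8 ≤ Nat.card {a : E // σ a = a}) : ∃ T : Sylow 2 X, AFacts T := by
  have : Fact (Nat.Prime 2) := ⟨Nat.prime_two⟩
  obtain ⟨y, hy, hytop, hP⟩ := Cfsg.Agent.OddHalf.Quat.RowHex.exists_sylow h htop default
  obtain ⟨ω, hω, hω0, hω1⟩ := exists_fix (σ := σ) (n := 4) (by norm_num) (by omega)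
  exact ⟨default, aFacts hy hytop (notTwo_of' hω hω0 hω1) hP hω hω0 hω1 (by omega)⟩

/-- **`BFacts` for a hexagonal system in `G`.** -/
theorem bfacts [Finite E] [Finite G] {x : ZMod 12 → E → G} (h : HexTwo σ x)
    (hq : Nat.card {a : E // σ a = a} = 4 ∨ 8 ≤ Nat.card {a : E // σ a = a}) : BFacts (AA σ x) := by
  classical
  let x' : ZMod 12 → E → ↥(AA σ x) := fun k a => if ha : Ok σ k a then ⟨x k a, x_mem_AA ha⟩ else 1
  have hx' : ∀ k a, Ok σ k a → x k a = (AA σ x).subtype (x' k a) := by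
    intro k a ha
    simp only [x', dif_pos ha, Subgroup.coe_subtype]
  have h' : HexTwo σ x' := h.comap (AA σ x).subtype Subtype.val_injective hx'
  have htop : AA σ x' = ⊤ := by
    have h1 : AA σ x = (AA σ x').map (AA σ x).subtype := map_gen (AA σ x).subtype hx' Set.univ
    apply Subgroup.map_injective (AA σ x).subtype_injective
    rw [← h1, ← MonoidHom.range_eq_map, Subgroup.range_subtype]
  obtain ⟨T, hT⟩ := exists_aFacts h' htop hq
  exact hT.bfacts (MulEquiv.refl _)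

/-- **`BFacts` for `G₂(q)`, `q ≥ 4` even.** -/
theorem g2 [Finite G] {F : Type*} [Field F] [Fintype F] {a : ℕ} (ha : 2 ≤ a) (hF : Fintype.card F = 2 ^ a)
    {K : Subgroup G} (e : ↥(chevG2.group F) ≃* ↥K) : BFacts K := by
  have h1 : Nat.card {c : F // (RingEquiv.refl F) c = c} = 2 ^ a := by
    rw [← hF, ← Nat.card_eq_fintype_card]
    exact Nat.card_congr (Equiv.subtypeUnivEquiv fun c => rfl)
  obtain ⟨T, hT⟩ := exists_aFacts (σ := RingEquiv.refl F) (HexModel.G2.hexTwo (HexModel.Main.two_eq_zero hF))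
    HexModel.Main.g2_top (by
      rw [h1]
      rcases Nat.lt_or_ge a 3 with h2 | h2
      · left
        have : a = 2 := by omega
        subst this
        norm_num
      · right
        calc 8 = 2 ^ 3 := by norm_num
          _ ≤ 2 ^ a := Nat.pow_le_pow_right (by norm_num) h2)
  exact hT.bfacts e

/-- **`BFacts` for `³D₄(q)`, `q ≥ 4` even.** -/
theorem d4 [Finite G] {F : Type*} [Field F] [Fintype F] {a : ℕ} (ha : 2 ≤ a) (hF : Fintype.card F = 8 ^ a)
    {K : Subgroup G} (e : ↥(twistedD4 F (2 ^ a)) ≃* ↥K) : BFacts K := by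
  obtain ⟨σ, hσ, h3, hne, hf⟩ := HexModel.Main.exists_sigma (by omega) hF
  have h2 : (2 : F) = 0 := by
    apply HexModel.Main.two_eq_zero (n := 3 * a)
    rw [hF, pow_mul]
    norm_num
  obtain ⟨T, hT⟩ := exists_aFacts (HexModel.Main.d4_hexTwo hσ h2 h3) (HexModel.Main.d4_top hσ h2) (by
      rw [hf]
      rcases Nat.lt_or_ge a 3 with h2 | h2
      · left
        have : a = 2 := by omega
        subst this
        norm_num
      · right
        calc 8 = 2 ^ 3 := by norm_num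
          _ ≤ 2 ^ a := Nat.pow_le_pow_right (by norm_num) h2)
  exact hT.bfacts e

end Cfsg.Agent.OddHalf.D4.HexFree
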