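import Cfsg.Agent.OddHalf.D4.HexFree.Flt
import Cfsg.Agent.OddHalf.D4.Free.AutFacts
import Cfsg.Agent.OddHalf.DblR.HexK.AutForm
import Cfsg.Agent.StdRank2.OutField

/-!
# `G₂(q)`, `³D₄(q)`: `AFacts`

`X = AA σ x`, `T = UU σ x`. `Fd e g τ` : the automorphism `e` of `X` is `x_k(a) ↦ x_k(τ a)^g`.
* `inner_of` : an element of a 2-subgroup of `Aut X` normalising `T` with `τ = 1` on the fixed field of `σ` is
  conjugation by an element of `T`;
* **`aFacts`** : `AFacts T`, if the fixed field of `σ` has order 4 or at least 8.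
-/

set_option autoImplicit false
set_option maxHeartbeats 400000

namespace Cfsg.Agent.OddHalf.D4.HexFree

open Subgroup Cfsg.Agent.StdRank2.Hex Cfsg.Agent.StdRank2.Hex.HexTwo Cfsg.Agent.SplitTwo
open Cfsg.Agent.OddHalf.D4.Free Cfsg.Agent.HexStart Cfsg.Agent.OddHalf.DblR.HexK
open scoped commutatorElement

variable {E : Type*} [Field E] {σ : E ≃+* E} {X : Type*} [Group X] {x : ZMod 12 → E → X}

/-- `e` is the product of the field automorphism `τ` and the inner automorphism `g` -/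
def Fd (σ : E ≃+* E) (x : ZMod 12 → E → X) (e : MulAut X) (g : X) (τ : E ≃+* E) : Prop :=
  ∀ k a, Ok σ k a → e (x k a) = g * x k (τ a) * g⁻¹

theorem Fd.one : Fd σ x 1 1 1 := fun k a _ => by
  rw [MulAut.one_apply, one_mul, inv_one, mul_one]
  rfl

theorem Fd.mul [Finite E] {e e' : MulAut X} {g g' : X} {τ τ' : E ≃+* E} (h1 : Fd σ x e g τ) (h2 : Fd σ x e' g' τ') :
    Fd σ x (e * e') (e g' * g) (τ * τ') := fun k a ha => by
  have hτ' : Ok σ k (τ' a) := ok_map (fun b => field_comm τ' σ b) ha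
  rw [MulAut.mul_apply, h2 k a ha, map_mul, map_mul, map_inv, h1 k _ hτ', RingAut.mul_apply]
  group

theorem Fd.conj {e : MulAut X} {g : X} {τ : E ≃+* E} (h1 : Fd σ x e g τ) (m : X) :
    Fd σ x (MulAut.conj m * e) (m * g) τ := fun k a ha => by
  rw [MulAut.mul_apply, MulAut.conj_apply, h1 k a ha]
  group

theorem Fd.conj' {e : MulAut X} {g : X} {τ : E ≃+* E} (h1 : Fd σ x e g τ) (m : X) :
    Fd σ x (e * MulAut.conj m) (e m * g) τ := fun k a ha => by
  rw [MulAut.mul_apply, MulAut.conj_apply, map_mul, map_mul, map_inv, h1 k a ha]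
  group

variable (h : HexTwo σ x)
include h

theorem exists_fd [Finite E] [Finite X] (htop : AA σ x = ⊤) (hN : NotTwo σ) (e : MulAut X) :
    ∃ g τ, Fd σ x e g τ := by
  have h1 : HexTwo σ (fun k a => e (x k a)) := h.map e.toMonoidHom e.injective (fun _ _ _ => rfl)
  have h2 : AA σ (fun k a => e (x k a)) = AA σ x := by
    have h3 : AA σ (fun k a => e (x k a)) = (AA σ x).map e.toMonoidHom :=
      map_gen e.toMonoidHom (fun _ _ _ => rfl) Set.univ
    rw [h3, htop, ← MonoidHom.range_eq_map]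
    exact MonoidHom.range_eq_top.mpr e.surjective
  obtain ⟨g, -, τ, hτ⟩ := exists_conj h h1 hN h2
  exact ⟨g, τ, hτ⟩

/-- the field part is unique -/
theorem Fd.unique [Finite E] (htop : AA σ x = ⊤) {e : MulAut X} {g g₂ : X} {τ τ₂ : E ≃+* E} (h1 : Fd σ x e g τ)
    (h2 : Fd σ x e g₂ τ₂) : τ = τ₂ := by
  set m := g₂⁻¹ * g with hm
  have hA : ∀ y : X, y ∈ AA σ x := fun y => by rw [htop]; exact mem_top _
  have key : ∀ k b, Ok σ k b → m * x k (τ (τ₂.symm b)) * m⁻¹ = x k b := by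
    intro k b hb
    have hb' : Ok σ k (τ₂.symm b) := ok_map (fun c => field_comm τ₂.symm σ c) hb
    have e1 := (h1 k _ hb').symm.trans (h2 k _ hb')
    rw [RingEquiv.apply_symm_apply] at e1
    calc m * x k (τ (τ₂.symm b)) * m⁻¹ = g₂⁻¹ * (g * x k (τ (τ₂.symm b)) * g⁻¹) * g₂ := by rw [hm]; group
      _ = x k b := by rw [e1]; group
  have h3 : ∀ a, m * x 3 ((τ₂.symm.trans τ) a) * m⁻¹ = x 3 a := fun a => key 3 a (ok_odd (by decide) a)
  have h4 : m * x 4 1 * m⁻¹ = x 4 1 := by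
    have := key 4 1 (ok_one σ 4)
    rwa [map_one, map_one] at this
  have hU : m ∈ UU σ x := h.mem_U_of (hA m) h4 (comm_x3_one h h3)
  have h5 : ∀ a, (τ₂.symm.trans τ) a = a := field_of_x3 h hU h3
  ext a
  have := h5 (τ₂ a)
  rw [RingEquiv.trans_apply, RingEquiv.symm_apply_apply] at this
  exact this

theorem fd_pow [Finite E] {e : MulAut X} {g : X} {τ : E ≃+* E} (h1 : Fd σ x e g τ) (n : ℕ) :
    ∃ g', Fd σ x (e ^ n) g' (τ ^ n) := by
  induction n with
  | zero => exact ⟨1, by rw [pow_zero, pow_zero]; exact Fd.one⟩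
  | succ n ih =>
    obtain ⟨g', h2⟩ := ih
    exact ⟨_, by rw [pow_succ, pow_succ]; exact h2.mul h1⟩

section

variable [Finite E] [Finite X] (htop : AA σ x = ⊤) (hN : NotTwo σ) (T : Sylow 2 X) (hT : (T : Subgroup X) = UU σ x)

include hT in
theorem inZ_iff' {z : X} : InZ T z ↔ z ∈ gen σ x {4} := by
  have hTU : ∀ y, y ∈ T ↔ y ∈ UU σ x := fun y => by rw [← hT]; exact Iff.rfl
  constructor
  · rintro ⟨h1, h2⟩
    exact mem_center_U h ((hTU z).1 h1) fun u hu => (h2 u ((hTU u).2 hu)).symm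
  · intro hz
    refine ⟨(hTU z).2 (gen_mono ?_ hz), fun t ht => X4_comm h hz (U_le_P ((hTU t).1 ht))⟩
    rintro l rfl
    show ((4 : ZMod 12) - 1).val < 6
    decide

include hT in
theorem fixZ_iff' {e : MulAut X} : FixZ T e ↔ ∀ s, σ s = s → e (x 4 s) = x 4 s := by
  constructor
  · intro h1 s hs
    exact h1 _ ((inZ_iff' h T hT).2 (x_mem_gen (Set.mem_singleton _) (ok_of_fix 4 hs)))
  · intro h1 z hz
    obtain ⟨s, hs, rfl⟩ := h.mem_gen_singleton.1 ((inZ_iff' h T hT).1 hz)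
    exact h1 s (hs (by decide))

variable {T} {A : Subgroup (MulAut X)} (hA : GoodA T A)

include htop hN hT hA in
/-- the form of the elements of a good 2-group -/
theorem good_form {e : MulAut X} (he : e ∈ A) : ∃ u ∈ UU σ x, ∃ t ∈ h.H, ∃ τ, Fd σ x e (u * t) τ := by
  obtain ⟨g, τ, hf⟩ := exists_fd h htop hN e
  have hTU : ∀ y, y ∈ T ↔ y ∈ UU σ x := fun y => by rw [← hT]; exact Iff.rfl
  have hgU : ∀ u ∈ UU σ x, g * u * g⁻¹ ∈ UU σ x := by
    intro u hu
    refine conj_gen (S := arc 1 6) (T := arc 1 6) (fun k hk a ha => ?_) hu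
    have ha' : Ok σ k (τ.symm a) := ok_map (fun c => field_comm τ.symm σ c) ha
    have e1 := hf k _ ha'
    rw [RingEquiv.apply_symm_apply] at e1
    rw [← e1]
    exact (hTU _).1 (hA.norm e he _ ((hTU _).2 (x_mem_gen hk ha')))
  obtain ⟨u, hu, t, ht, e1⟩ := h.mem_normalizer_U (g := g) (by rw [htop]; exact mem_top _) hgU
  exact ⟨u, hu, t, ht, τ, by rw [← e1]; exact hf⟩

include htop in
/-- 2-elements have field part of 2-power order -/
theorem fd_two {e : MulAut X} {g : X} {τ : E ≃+* E} (hf : Fd σ x e g τ) {n : ℕ} (hn : e ^ 2 ^ n = 1) :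
    τ ^ 2 ^ n = 1 := by
  obtain ⟨g', h1⟩ := fd_pow h hf (2 ^ n)
  rw [hn] at h1
  exact h1.unique h htop Fd.one

omit htop [Finite X] in
/-- a 2-power order field automorphism trivial on `Fix σ` is trivial -/
theorem field_trivial {τ : E ≃+* E} {n : ℕ} (hn : τ ^ 2 ^ n = 1) (hτ : ∀ s, σ s = s → τ s = s) : τ = 1 := by
  by_contra hne
  -- an involution
  obtain ⟨j, hj1, hj2⟩ : ∃ j : ℕ, τ ^ 2 ^ j ≠ 1 ∧ τ ^ 2 ^ (j + 1) = 1 := by
    by_contra hcon
    push Not at hcon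
    have key : ∀ j : ℕ, τ ^ 2 ^ j ≠ 1 := by
      intro j
      induction j with
      | zero => simpa using hne
      | succ j ih => exact hcon j ih
    exact key n hn
  set ρ := τ ^ 2 ^ j with hρ
  have hρ2 : ρ * ρ = 1 := by
    rw [hρ, ← pow_two, ← pow_mul, ← pow_succ]; exact hj2
  have hfix : ∀ m : ℕ, ∀ s, σ s = s → (τ ^ m) s = s := by
    intro m
    induction m with
    | zero => intro s _; rw [pow_zero]; rfl
    | succ m ih => intro s hs; rw [pow_succ, RingAut.mul_apply, hτ s hs, ih s hs]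
  have hne' : ∃ a, ρ a ≠ a := by
    by_contra hcon
    push Not at hcon
    exact hj1 (RingEquiv.ext hcon)
  obtain ⟨b, hb, e1⟩ := exists_trace_one h (τ := ρ) (fun a => field_comm ρ σ a) (fun a => by
    have := congrArg (fun f : E ≃+* E => f a) hρ2
    exact this) hne'
  rw [hρ, hfix _ b hb, h.add_self] at e1
  exact zero_ne_one e1

include htop hN hT hA in
/-- elements without field part are inner -/
theorem inner_of {e : MulAut X} (he : e ∈ A) {g : X} {τ : E ≃+* E} (hf : Fd σ x e g τ)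
    (hτ : ∀ s, σ s = s → τ s = s) : ∃ u ∈ UU σ x, e = MulAut.conj u := by
  have hTU : ∀ y, y ∈ T ↔ y ∈ UU σ x := fun y => by rw [← hT]; exact Iff.rfl
  obtain ⟨n, hn⟩ := hA.two ⟨e, he⟩
  have hn' : e ^ 2 ^ n = 1 := congrArg Subtype.val hn
  have h1 : τ = 1 := field_trivial h (fd_two h htop hf hn') hτ
  obtain ⟨u, hu, t, ht, τ', hf'⟩ := good_form h htop hN hT hA he
  have h2 : τ' = 1 := (hf'.unique h htop hf).trans h1
  subst h2
  -- `e = conj (u t)`
  have h3 : e = MulAut.conj (u * t) := by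
    have h4 : AA σ x ≤ MonoidHom.eqLocus (e : X ≃* X).toMonoidHom (MulAut.conj (u * t) : X ≃* X).toMonoidHom :=
      gen_le fun k _ a ha => by
        change e (x k a) = MulAut.conj (u * t) (x k a)
        rw [hf' k a ha, MulAut.conj_apply]
        rfl
    ext y
    exact h4 (by rw [htop]; exact mem_top _)
  -- `conj t ∈ A`
  have h5 : MulAut.conj t ∈ A := by
    have e1 : MulAut.conj t = (MulAut.conj u)⁻¹ * e := by rw [h3, map_mul]; group
    rw [e1]
    exact A.mul_mem (A.inv_mem (hA.inn u ((hTU u).2 hu))) he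
  obtain ⟨m, hm⟩ := hA.two ⟨_, h5⟩
  have hm' : (MulAut.conj t : MulAut X) ^ 2 ^ m = 1 := congrArg Subtype.val hm
  rw [← map_pow] at hm'
  have h6 : t ^ 2 ^ m = 1 := by
    refine center_eq_one h (by rw [htop]; exact mem_top _) fun k a _ => ?_
    have := congrArg (fun f : MulAut X => f (x k a)) hm'
    rw [MulAut.one_apply] at this
    exact this
  have h7 : t = 1 := h.H_two ht h6
  exact ⟨u, hu, by rw [h3, h7, mul_one]⟩

include htop hN hT hA in
/-- the action on `X_k`, `k = 2, 4` -/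
theorem act_long' {e : MulAut X} (he : e ∈ A) {g : X} {τ : E ≃+* E} (hf : Fd σ x e g τ) :
    ∃ u ∈ UU σ x, ∃ c₂ c₄ : E, c₂ ≠ 0 ∧ c₄ ≠ 0 ∧ σ c₂ = c₂ ∧ σ c₄ = c₄ ∧
      (∀ s, σ s = s → e (x 2 s) = u * x 2 (c₂ * τ s) * u⁻¹) ∧ ∀ s, σ s = s → e (x 4 s) = x 4 (c₄ * τ s) := by
  obtain ⟨u, hu, t, ht, τ', hf'⟩ := good_form h htop hN hT hA he
  obtain rfl : τ' = τ := hf'.unique h htop hf
  obtain ⟨c₂, h20, hc₂, hc₂'⟩ := h.H_diag ht 2
  obtain ⟨c₄, h40, hc₄, hc₄'⟩ := h.H_diag ht 4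
  have hτ : ∀ s, σ s = s → σ (τ' s) = τ' s := fun s hs => by rw [field_comm, hs]
  refine ⟨u, hu, c₂, c₄, h20, h40, hc₂ (by decide), hc₄ (by decide), fun s hs => ?_, fun s hs => ?_⟩
  · rw [hf' 2 s (ok_of_fix 2 hs), mul_inv_rev]
    calc u * t * x 2 (τ' s) * (t⁻¹ * u⁻¹) = u * (t * x 2 (τ' s) * t⁻¹) * u⁻¹ := by group
      _ = _ := by rw [hc₂' _ (ok_of_fix 2 (hτ s hs))]
  · rw [hf' 4 s (ok_of_fix 4 hs), mul_inv_rev]
    have h1 : σ (c₄ * τ' s) = c₄ * τ' s := by rw [map_mul, hc₄ (by decide), hτ s hs]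
    have h2 := X4_comm h (z := x 4 (c₄ * τ' s)) (p := u) (x_mem_gen (Set.mem_singleton _) (ok_of_fix 4 h1)) (U_le_P hu)
    calc u * t * x 4 (τ' s) * (t⁻¹ * u⁻¹) = u * (t * x 4 (τ' s) * t⁻¹) * u⁻¹ := by group
      _ = _ := by rw [hc₄' _ (ok_of_fix 4 (hτ s hs)), h2]; group

include htop hN hT hA in
/-- `FixZ` -/
theorem fixZ_iff_field {e : MulAut X} (he : e ∈ A) {g : X} {τ : E ≃+* E} (hf : Fd σ x e g τ) :
    FixZ T e ↔ ∀ s, σ s = s → τ s = s := by
  rw [fixZ_iff' h T hT]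
  constructor
  · intro h1 s hs
    obtain ⟨u, hu, c₂, c₄, -, h40, -, hc4, -, h4⟩ := act_long' h htop hN hT hA he hf
    have hτ : ∀ s, σ s = s → σ (τ s) = τ s := fun s hs => by rw [field_comm, hs]
    have key : ∀ s, σ s = s → c₄ * τ s = s := fun s hs =>
      (h.x_inj (ok_of_fix 4 (by rw [map_mul, hc4, hτ s hs])) (ok_of_fix 4 hs)).1 ((h4 s hs).symm.trans (h1 s hs))
    have hc : c₄ = 1 := by
      have := key 1 (map_one σ)
      rwa [map_one, mul_one] at this
    have := key s hs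
    rwa [hc, one_mul] at this
  · intro h1 s hs
    obtain ⟨u, hu, rfl⟩ := inner_of h htop hN hT hA he hf h1
    have h2 := X4_comm h (z := x 4 s) (p := u) (x_mem_gen (Set.mem_singleton _) (ok_of_fix 4 hs)) (U_le_P hu)
    rw [MulAut.conj_apply, h2, mul_inv_cancel_right]

end

end Cfsg.Agent.OddHalf.D4.HexFree
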