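import Cfsg.Agent.OddHalf.D4.HexFree.Aut

/-!
# `G₂(q)`, `³D₄(q)`: `AFacts`

* **`aFacts`** : `AFacts T`, if the fixed field of `σ` has order 4 or at least 8.
-/

set_option autoImplicit false
set_option maxHeartbeats 400000

namespace Cfsg.Agent.OddHalf.D4.HexFree

open Subgroup Cfsg.Agent.StdRank2.Hex Cfsg.Agent.StdRank2.Hex.HexTwo Cfsg.Agent.SplitTwo
open Cfsg.Agent.OddHalf.D4.Free Cfsg.Agent.HexStart Cfsg.Agent.OddHalf.DblR.HexK
open scoped commutatorElement

variable {E : Type*} [Field E] {σ : E ≃+* E} {X : Type*} [Group X] {x : ZMod 12 → E → X}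

/-- an element of the fixed field outside a set of four elements -/
theorem exists_not_mem_four [Finite E] (h8 : 8 ≤ Nat.card {a : E // σ a = a}) {p q r s : E} (hp : σ p = p)
    (hq : σ q = q) (hr : σ r = r) (hs : σ s = s) : ∃ b, σ b = b ∧ b ≠ p ∧ b ≠ q ∧ b ≠ r ∧ b ≠ s := by
  classical
  have : Fintype {a : E // σ a = a} := Fintype.ofFinite _
  rw [Nat.card_eq_fintype_card] at h8
  by_contra hcon
  push Not at hcon
  have h1 : (Finset.univ : Finset {a : E // σ a = a}) ⊆ {⟨p, hp⟩, ⟨q, hq⟩, ⟨r, hr⟩, ⟨s, hs⟩} := by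
    rintro ⟨b, hb⟩ -
    simp only [Finset.mem_insert, Finset.mem_singleton, Subtype.mk.injEq]
    by_cases h1 : b = p
    · exact Or.inl h1
    by_cases h2 : b = q
    · exact Or.inr (Or.inl h2)
    by_cases h3 : b = r
    · exact Or.inr (Or.inr (Or.inl h3))
    · exact Or.inr (Or.inr (Or.inr (hcon b hb h1 h2 h3)))
  have h2 := Finset.card_le_card h1
  rw [Finset.card_univ] at h2
  have h3 := h2.trans Finset.card_le_four
  omega

/-- two elements moved together with their sum -/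
theorem exists_two_moved [Finite E] (two : (2 : E) = 0) (h8 : 8 ≤ Nat.card {a : E // σ a = a}) {ω : E}
    (hω : σ ω = ω) (hω0 : ω ≠ 0) (hω1 : ω ≠ 1) {τ : E ≃+* E} {c : E} (hmv : ∃ s, σ s = s ∧ c * τ s ≠ s) :
    ∃ a b, σ a = a ∧ σ b = b ∧ c * τ a ≠ a ∧ c * τ b ≠ b ∧ c * τ (a + b) ≠ a + b := by
  by_cases hfix : ∃ x0, σ x0 = x0 ∧ x0 ≠ 0 ∧ c * τ x0 = x0
  · obtain ⟨x0, hx, hx0, e0⟩ := hfix
    obtain ⟨s, hs, hs1⟩ := hmv
    have hψ : ∀ y, c * τ (x0 * y) = x0 * τ y := fun y => by rw [map_mul, ← mul_assoc, e0]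
    set a' := s / x0 with ha'
    have hsa : s = x0 * a' := by rw [ha']; field_simp
    have ha'f : σ a' = a' := by rw [ha', map_div₀, hs, hx]
    have ha'1 : τ a' ≠ a' := by
      intro e1
      apply hs1
      rw [hsa, hψ, e1]
    by_cases h2 : ∃ f, σ f = f ∧ τ f = f ∧ f ≠ 0 ∧ f ≠ 1
    · obtain ⟨f, hf, hf', hf0, hf1⟩ := h2
      have hf2 : 1 + f ≠ 0 := fun e => hf1 (by linear_combination e - two)
      refine ⟨x0 * a', x0 * (f * a'), by rw [map_mul, hx, ha'f], by rw [map_mul, map_mul, hx, hf, ha'f], ?_, ?_, ?_⟩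
      · rw [hψ]
        exact fun e => ha'1 (mul_left_cancel₀ hx0 e)
      · rw [hψ, map_mul, hf']
        exact fun e => ha'1 (mul_left_cancel₀ hf0 (mul_left_cancel₀ hx0 e))
      · have e1 : x0 * a' + x0 * (f * a') = x0 * ((1 + f) * a') := by ring
        rw [e1, hψ, map_mul, map_add, map_one, hf']
        exact fun e => ha'1 (mul_left_cancel₀ hf2 (mul_left_cancel₀ hx0 e))
    · push Not at h2
      obtain ⟨b', hb', h01, h02, h03, h04⟩ := exists_not_mem_four (σ := σ) h8 (p := 0) (q := 1) (r := a') (s := a' + 1)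
        (map_zero σ) (map_one σ) ha'f (by rw [map_add, ha'f, map_one])
      refine ⟨x0 * a', x0 * b', by rw [map_mul, hx, ha'f], by rw [map_mul, hx, hb'], ?_, ?_, ?_⟩
      · rw [hψ]
        exact fun e => ha'1 (mul_left_cancel₀ hx0 e)
      · rw [hψ]
        exact fun e => h02 (h2 b' hb' (mul_left_cancel₀ hx0 e) h01)
      · rw [← mul_add, hψ]
        intro e
        have e1 := mul_left_cancel₀ hx0 e
        by_cases h5 : a' + b' = 0
        · exact h03 (by linear_combination h5 - a' * two)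
        · have h6 := h2 (a' + b') (by rw [map_add, ha'f, hb']) e1 h5
          exact h04 (by linear_combination h6 - a' * two)
  · push Not at hfix
    have hw : 1 + ω ≠ 0 := fun e => hω1 (by linear_combination e - two)
    exact ⟨1, ω, map_one σ, hω, hfix 1 (map_one σ) one_ne_zero, hfix ω hω hω0,
      hfix (1 + ω) (by rw [map_add, map_one, hω]) hw⟩

variable (h : HexTwo σ x)
include h

/-- the filtration -/
theorem fltA [Finite E] [Finite X] (htop : AA σ x = ⊤) (hN : NotTwo σ) {T : Sylow 2 X}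
    (hT : (T : Subgroup X) = UU σ x) {ω : E} (hω : σ ω = ω) (hω0 : ω ≠ 0) (hω1 : ω ≠ 1)
    {A : Subgroup (MulAut X)} (hA : GoodA T A) :
    FltA T A (fun j => gen σ x (Lv j)) (fun j => {l | ∃ k, Tp j k ∧ ∃ s, ∃ hs : Ok σ k s, s ≠ 0 ∧ l = line h k s hs}) where
  zero := hT.symm
  bot := ⟨5, by
    rw [eq_bot_iff]
    exact gen_le fun l hl => absurd hl (Set.notMem_empty _)⟩
  le := fun j => gen_mono (Lv_succ j)
  gen := by
    intro j u hu
    have h1 : gen σ x (Lv j) ≤ closure ({y | ∃ l ∈ {l | ∃ k, Tp j k ∧ ∃ s, ∃ hs : Ok σ k s, s ≠ 0 ∧ l = line h k s hs},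
        y ∈ l} ∪ (gen σ x (Lv (j + 1)) : Set X)) := by
      refine gen_le fun k hk a ha => ?_
      rcases Lv_cases j hk with h2 | h2
      · exact subset_closure (Or.inr (x_mem_gen h2 ha))
      · by_cases ha0 : a = 0
        · subst ha0
          rw [h.x_zero]
          exact one_mem _
        · exact subset_closure (Or.inl ⟨_, ⟨k, h2, a, ha, ha0, rfl⟩, self_mem_line⟩)
    exact h1 hu
  line_le := by
    rintro j _ ⟨k, hk, s, hs, -, rfl⟩ _ ⟨t, ht, rfl⟩
    exact x_mem_gen (Tp_Lv hk) ((ok_of_fix k ht).mul hs)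
  sq := by
    rintro j _ ⟨k, hk, s, hs, -, rfl⟩ _ ⟨t, ht, rfl⟩
    rw [h.x_sq ((ok_of_fix k ht).mul hs)]
    exact one_mem _
  pair := by
    rintro j _ ⟨k, hk, s, hs, hs0, rfl⟩
    have hw1 : 1 + ω ≠ 0 := fun e => hω1 (by linear_combination e - h.two)
    refine ⟨x k s, self_mem_line, x k (ω * s), ⟨ω, hω, rfl⟩, ?_, ?_, ?_⟩
    · exact fun hm => hs0 (eq_zero_of_mem h hk hs hm)
    · exact fun hm => mul_ne_zero hω0 hs0 (eq_zero_of_mem h hk ((ok_of_fix k hω).mul hs) hm)
    · rw [h.x_inv hs, ← h.add k _ _ hs ((ok_of_fix k hω).mul hs)]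
      intro hm
      have h1 := eq_zero_of_mem h hk (hs.add ((ok_of_fix k hω).mul hs)) hm
      have h2 : (1 + ω) * s = 0 := by linear_combination h1
      exact mul_ne_zero hw1 hs0 h2
  star := by
    rintro j _ ⟨k, hk, s, hs, hs0, rfl⟩ y hy hyZ - _ ⟨t, ht, rfl⟩ hm hc _ ⟨t', ht', rfl⟩
    obtain ⟨g, τ, hf⟩ := exists_fd h htop hN y
    obtain ⟨u, hu, rfl⟩ := inner_of h htop hN hT hA hy hf ((fixZ_iff_field h htop hN hT hA hy hf).1 hyZ)
    have ht0 : t ≠ 0 := by
      rintro rfl
      apply hm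
      rw [zero_mul, h.x_zero]
      exact one_mem _
    have h1 : u * x k (t * s) = x k (t * s) * u := by
      rw [MulAut.conj_apply] at hc
      exact mul_inv_eq_iff_eq_mul.1 hc
    have h2 := star h hk ((ok_of_fix k ht).mul hs) (mul_ne_zero ht0 hs0) hu h1 (t := t' / t) (by rw [map_div₀, ht', ht])
    have e1 : t' / t * (t * s) = t' * s := by field_simp
    rw [e1] at h2
    rw [MulAut.conj_apply, h2, mul_inv_cancel_right]
  fix := by
    rintro j _ ⟨k, hk, s, hs, hs0, rfl⟩ _ ⟨t, ht, rfl⟩ e he heZ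
    obtain ⟨g, τ, hf⟩ := exists_fd h htop hN e
    obtain ⟨u, hu, rfl⟩ := inner_of h htop hN hT hA he hf ((fixZ_iff_field h htop hN hT hA he hf).1 heZ)
    rw [MulAut.conj_apply]
    exact fix_line h hk ((ok_of_fix k ht).mul hs) hu

/-- (k5) -/
theorem outA [Finite E] [Finite X] (htop : AA σ x = ⊤) (hN : NotTwo σ) {T : Sylow 2 X}
    (hT : (T : Subgroup X) = UU σ x) {ω : E} (hω : σ ω = ω) (hω0 : ω ≠ 0) (hω1 : ω ≠ 1)
    (hq : Nat.card {a : E // σ a = a} ≤ 4 ∨ 8 ≤ Nat.card {a : E // σ a = a}) : OutA T := by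
  have hTU : ∀ y, y ∈ T ↔ y ∈ UU σ x := fun y => by rw [← hT]; exact Iff.rfl
  rcases hq with h4 | h8
  · right; right; left
    refine ⟨?_, ?_⟩
    · refine le_trans (Nat.card_le_card_of_injective (β := {a : E // σ a = a})
        (fun z : {z : X // InZ T z} => (⟨((h.mem_gen_singleton.1 ((inZ_iff' h T hT).1 z.2)).choose : E),
          (h.mem_gen_singleton.1 ((inZ_iff' h T hT).1 z.2)).choose_spec.1 (by decide)⟩ : {a : E // σ a = a})) ?_) h4
      intro z z' e
      have e1 := (h.mem_gen_singleton.1 ((inZ_iff' h T hT).1 z.2)).choose_spec.2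
      have e2 := (h.mem_gen_singleton.1 ((inZ_iff' h T hT).1 z'.2)).choose_spec.2
      have e3 := congrArg Subtype.val e
      exact Subtype.ext (e1.trans ((congrArg (x 4) e3).trans e2.symm))
    · intro A hA
      have hW : gen σ x {2, 4} ≤ UU σ x := gen_mono (by
        rintro l (rfl | rfl)
        · show ((2 : ZMod 12) - 1).val < 6
          decide
        · show ((4 : ZMod 12) - 1).val < 6
          decide)
      -- `U` normalises `W`
      have hUW : ∀ u ∈ UU σ x, ∀ w ∈ gen σ x {2, 4}, u * w * u⁻¹ ∈ gen σ x {2, 4} := by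
        intro u hu w hw
        refine conj_gen (S := {2, 4}) (T := {2, 4}) (fun k hk a ha => ?_) hw
        rcases hk with rfl | rfl
        · have h1 := fix_line h (j := 3) (k := 2) rfl ha hu
          have h2 : gen σ x (Lv (3 + 1)) ≤ gen σ x {2, 4} := gen_mono (Lv_succ 3)
          have h3 := mul_mem (h2 h1) (x_mem_gen (S := {2, 4}) (Or.inl rfl) ha)
          rwa [inv_mul_cancel_right] at h3
        · have h2 := X4_comm h (z := x 4 a) (p := u) (x_mem_gen (Set.mem_singleton _) ha) (U_le_P hu)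
          rw [h2, mul_inv_cancel_right]
          exact x_mem_gen (Or.inr rfl) ha
      refine ⟨gen σ x {2, 4}, fun w hw => (hTU w).2 (hW hw), ?_, ?_, ?_⟩
      · intro e he w hw
        obtain ⟨g, τ, hf⟩ := exists_fd h htop hN e
        obtain ⟨u, hu, c₂, c₄, -, -, hc2, hc4, h2, h4'⟩ := act_long' h htop hN hT hA he hf
        have hτ : ∀ s, σ s = s → σ (τ s) = τ s := fun s hs => by rw [field_comm, hs]
        have h5 : gen σ x {2, 4} ≤ (gen σ x {2, 4}).comap e.toMonoidHom := gen_le fun k hk a ha => by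
          rw [mem_comap]
          rcases hk with rfl | rfl
          · change e (x 2 a) ∈ _
            rw [h2 a (ha (by decide))]
            exact hUW u hu _ (x_mem_gen (Or.inl rfl) (ok_of_fix 2 (by rw [map_mul, hc2, hτ a (ha (by decide))])))
          · change e (x 4 a) ∈ _
            rw [h4' a (ha (by decide))]
            exact x_mem_gen (Or.inr rfl) (ok_of_fix 4 (by rw [map_mul, hc4, hτ a (ha (by decide))]))
        exact h5 hw
      · intro w hw
        obtain ⟨b, d, hb, hd, rfl⟩ := h.mem_24.1 hw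
        rw [h.q_mul hb hd (map_zero σ) hb hd (map_zero σ)]
        simp only [trc_zero_left, mul_zero, add_zero, h.add_self]
        exact h.q_zero
      · intro e he heZ _
        obtain ⟨g, τ, hf⟩ := exists_fd h htop hN e
        obtain ⟨u, hu, c₂, c₄, -, -, hc2, hc4, h2, h4'⟩ := act_long' h htop hN hT hA he hf
        have hτ : ∀ s, σ s = s → σ (τ s) = τ s := fun s hs => by rw [field_comm, hs]
        have hmv : ∀ c : E, ∃ r, σ r = r ∧ c * τ r ≠ r := by
          intro c
          by_contra hcon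
          push Not at hcon
          apply heZ
          rw [fixZ_iff_field h htop hN hT hA he hf]
          intro s hs
          have e1 := hcon 1 (map_one σ)
          rw [map_one, mul_one] at e1
          have e2 := hcon s hs
          rwa [e1, one_mul] at e2
        obtain ⟨s, hs, hs1⟩ := hmv c₄
        obtain ⟨r, hr, hr1⟩ := hmv c₂
        have m4 : x 4 s ∈ gen σ x {2, 4} := x_mem_gen (Or.inr rfl) (ok_of_fix 4 hs)
        have m2 : x 2 r ∈ gen σ x {2, 4} := x_mem_gen (Or.inl rfl) (ok_of_fix 2 hr)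
        -- modulo `X₄`
        have key : ∀ d, σ d = d → e (x 4 d * x 2 r) ≠ x 4 d * x 2 r := by
          intro d hd e1
          have hr' : σ (c₂ * τ r) = c₂ * τ r := by rw [map_mul, hc2, hτ r hr]
          have hd' : σ (c₄ * τ d) = c₄ * τ d := by rw [map_mul, hc4, hτ d hd]
          rw [map_mul, h2 r hr, h4' d hd] at e1
          have h6 := fix_line h (j := 3) (k := 2) rfl (ok_of_fix 2 hr') hu
          obtain ⟨p, hp, e2⟩ := h.mem_gen_singleton.1 (show _ ∈ gen σ x {4} from h6)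
          have e3 : u * x 2 (c₂ * τ r) * u⁻¹ = x 4 p * x 2 (c₂ * τ r) := by rw [← e2]; group
          rw [e3] at e1
          have hp' : σ p = p := hp (by decide)
          -- coordinates
          have e4 : ∀ a b, σ a = a → σ b = b → x 4 a * x 2 b = q x b 0 a 0 0 := fun a b ha hb => by
            rw [h.q_234, h.x_zero, mul_one, h.s24 hb ha]
          rw [← mul_assoc, ← h.add 4 _ _ (ok_of_fix 4 hd') (ok_of_fix 4 hp'), e4 _ _ (by rw [map_add, hd', hp']) hr',
            e4 _ _ hd hr] at e1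
          exact hr1 (h.q_inj hr' (by rw [map_add, hd', hp']) (map_zero σ) hr hd (map_zero σ) e1).1
        refine ⟨x 4 s, m4, x 2 r, m2, ?_, ?_, key s hs⟩
        · rw [h4' s hs]
          intro e1
          exact hs1 ((h.x_inj (ok_of_fix 4 (by rw [map_mul, hc4, hτ s hs])) (ok_of_fix 4 hs)).1 e1)
        · have := key 0 (map_zero σ)
          rwa [h.x_zero, one_mul] at this
  · left
    intro A hA e he heZ
    obtain ⟨g, τ, hf⟩ := exists_fd h htop hN e
    obtain ⟨u, hu, c₂, c₄, -, -, -, hc4, -, h4'⟩ := act_long' h htop hN hT hA he hf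
    have hτ : ∀ s, σ s = s → σ (τ s) = τ s := fun s hs => by rw [field_comm, hs]
    have hmv : ∃ r, σ r = r ∧ c₄ * τ r ≠ r := by
      by_contra hcon
      push Not at hcon
      apply heZ
      rw [fixZ_iff_field h htop hN hT hA he hf]
      intro s hs
      have e1 := hcon 1 (map_one σ)
      rw [map_one, mul_one] at e1
      have e2 := hcon s hs
      rwa [e1, one_mul] at e2
    obtain ⟨a, b, ha, hb, h1, h2, h3⟩ := exists_two_moved (σ := σ) h.two h8 hω hω0 hω1 hmv
    have mv : ∀ s, σ s = s → c₄ * τ s ≠ s → e (x 4 s) ≠ x 4 s := by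
      intro s hs hs1 e1
      rw [h4' s hs] at e1
      exact hs1 ((h.x_inj (ok_of_fix 4 (by rw [map_mul, hc4, hτ s hs])) (ok_of_fix 4 hs)).1 e1)
    have inZ : ∀ s, σ s = s → InZ T (x 4 s) := fun s hs =>
      (inZ_iff' h T hT).2 (x_mem_gen (Set.mem_singleton _) (ok_of_fix 4 hs))
    refine ⟨x 4 a, x 4 b, inZ a ha, inZ b hb, mv a ha h1, mv b hb h2, ?_⟩
    rw [← h.add 4 a b (ok_of_fix 4 ha) (ok_of_fix 4 hb)]
    exact mv _ (by rw [map_add, ha, hb]) h3

/-- **The K-facts of case (b).** -/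
theorem aFacts [Finite E] [Finite X] (htop : AA σ x = ⊤) (hN : NotTwo σ) {T : Sylow 2 X}
    (hT : (T : Subgroup X) = UU σ x) {ω : E} (hω : σ ω = ω) (hω0 : ω ≠ 0) (hω1 : ω ≠ 1)
    (hq : Nat.card {a : E // σ a = a} ≤ 4 ∨ 8 ≤ Nat.card {a : E // σ a = a}) : AFacts T where
  sq := by
    intro z hz
    obtain ⟨s, hs, rfl⟩ := h.mem_gen_singleton.1 ((inZ_iff' h T hT).1 hz)
    exact h.x_sq hs
  cyc := by
    intro A hA a ha b hb haZ hbZ
    have : CharP E 2 := (CharP.charP_iff_prime_eq_zero Nat.prime_two).2 (by exact_mod_cast h.two)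
    obtain ⟨g, τ, hf⟩ := exists_fd h htop hN a
    obtain ⟨g', τ', hf'⟩ := exists_fd h htop hN b
    have sq1 : ∀ {a : MulAut X} {g : X} {τ : E ≃+* E}, a ∈ A → Fd σ x a g τ → FixZ T (a * a) → τ * τ = 1 := by
      intro a g τ ha hf haZ
      have haa : a * a ∈ A := A.mul_mem ha ha
      have h1 := (fixZ_iff_field h htop hN hT hA haa (hf.mul hf)).1 haZ
      obtain ⟨n, hn⟩ := hA.two ⟨_, haa⟩
      exact field_trivial h (fd_two h htop (hf.mul hf) (congrArg Subtype.val hn)) h1
    by_cases h1 : τ = 1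
    · left
      rw [fixZ_iff_field h htop hN hT hA ha hf, h1]
      exact fun s _ => rfl
    by_cases h2 : τ' = 1
    · right; left
      rw [fixZ_iff_field h htop hN hT hA hb hf', h2]
      exact fun s _ => rfl
    right; right
    have h3 := Cfsg.Agent.StdRank2.OutField.unique_invol (sq1 ha hf haZ) (sq1 hb hf' hbZ) h1 h2
    have hc : a⁻¹ * b ∈ A := A.mul_mem (A.inv_mem ha) hb
    obtain ⟨g'', τ'', hf''⟩ := exists_fd h htop hN (a⁻¹ * b)
    have h4 := hf.mul hf''
    rw [mul_inv_cancel_left] at h4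
    have h5 := h4.unique h htop hf'
    rw [← h3] at h5
    have h6 : τ'' = 1 := mul_eq_left.1 h5
    rw [fixZ_iff_field h htop hN hT hA hc hf'', h6]
    exact fun s _ => rfl
  field := by
    intro A hA e he g hg
    obtain ⟨m, τ, hf⟩ := exists_fd h htop hN e
    rw [fixZ_iff_field h htop hN hT hA he hf]
    set m' := g⁻¹ * e g * m with hm'
    have key : ∀ s, σ s = s → m' * x 4 (τ s) * m'⁻¹ = x 4 s := by
      intro s hs
      have e1 := hg _ ((inZ_iff' h T hT).2 (x_mem_gen (Set.mem_singleton _) (ok_of_fix 4 hs)))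
      rw [map_mul, map_mul, map_inv, hf 4 s (ok_of_fix 4 hs)] at e1
      calc m' * x 4 (τ s) * m'⁻¹ = g⁻¹ * (e g * (m * x 4 (τ s) * m⁻¹) * (e g)⁻¹) * g := by rw [hm']; group
        _ = x 4 s := by rw [e1]; group
    have h1 := key 1 (map_one σ)
    rw [map_one] at h1
    have h2 : m' ∈ gen σ x (arc 1 7) :=
      (h.mem_centralizer_x4 (by rw [htop]; exact mem_top _) (map_one σ) one_ne_zero).1 h1
    intro s hs
    have hτ : σ (τ s) = τ s := by rw [field_comm, hs]
    have h3 := key s hs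
    rw [X4_comm h (z := x 4 (τ s)) (x_mem_gen (Set.mem_singleton _) (ok_of_fix 4 hτ)) h2, mul_inv_cancel_right] at h3
    exact (h.x_inj (ok_of_fix 4 hτ) (ok_of_fix 4 hs)).1 h3
  filt := fun A hA => ⟨_, _, fltA h htop hN hT hω hω0 hω1 hA⟩
  graph := by
    intro A hA a ha b _ haZ _
    left
    obtain ⟨g, τ, hf⟩ := exists_fd h htop hN a
    obtain ⟨u, -, rfl⟩ := inner_of h htop hN hT hA ha hf ((fixZ_iff_field h htop hN hT hA ha hf).1 haZ)
    exact ⟨u, rfl⟩
  out := outA h htop hN hT hω hω0 hω1 hq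

end Cfsg.Agent.OddHalf.D4.HexFree
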