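import Cfsg.Agent.HexStart.HexPure
import Cfsg.Agent.HexStart.HexLong

/-!
# `G₂(q)`, `³D₄(q)`: the filtration of `U` by lines

`Lv j` : the levels `X₁…X₆ > X₂X₃X₄X₅ > X₂X₃X₄ > X₂X₄ > X₄ > 1`; `line k s = {x_k(t s) : σ t = t}`.
* `fix_line` : `[U, line] ≤ ` next level;
* **`star`** : an element of `U` commuting with `x_k(s)`, `s ≠ 0`, commutes with `line k s`.
-/

set_option autoImplicit false
set_option maxHeartbeats 400000

namespace Cfsg.Agent.OddHalf.D4.HexFree

open Subgroup Cfsg.Agent.StdRank2.Hex Cfsg.Agent.StdRank2.Hex.HexTwo Cfsg.Agent.SplitTwo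
open scoped commutatorElement

variable {E : Type*} [Field E] {σ : E ≃+* E} {G : Type*} [Group G] {x : ZMod 12 → E → G}

/-! ### Levels and lines -/

/-- the levels -/
def Lv : ℕ → Set (ZMod 12)
  | 0 => arc 1 6
  | 1 => arc 2 4
  | 2 => arc 2 3
  | 3 => {2, 4}
  | 4 => {4}
  | _ => ∅

/-- the roots of the level `j` -/
def Tp : ℕ → ZMod 12 → Prop
  | 0, k => k = 1 ∨ k = 6
  | 1, k => k = 5
  | 2, k => k = 3
  | 3, k => k = 2
  | 4, k => k = 4
  | _, _ => False

theorem Lv_succ (j : ℕ) : Lv (j + 1) ⊆ Lv j := by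
  rcases j with _ | _ | _ | _ | _ | j
  · show arc 2 4 ⊆ arc 1 6
    intro k hk
    have : ∀ k : ZMod 12, (k - 2).val < 4 → (k - 1).val < 6 := by decide
    exact this k hk
  · show arc 2 3 ⊆ arc 2 4
    exact arc_mono (by norm_num)
  · show ({2, 4} : Set (ZMod 12)) ⊆ arc 2 3
    rintro k (rfl | rfl)
    · show ((2 : ZMod 12) - 2).val < 3
      decide
    · show ((4 : ZMod 12) - 2).val < 3
      decide
  · show ({4} : Set (ZMod 12)) ⊆ {2, 4}
    rintro k rfl
    exact Or.inr rfl
  · exact Set.empty_subset _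
  · exact Set.empty_subset _

theorem Lv_cases (j : ℕ) {k : ZMod 12} (hk : k ∈ Lv j) : k ∈ Lv (j + 1) ∨ Tp j k := by
  rcases j with _ | _ | _ | _ | _ | j
  · have : ∀ k : ZMod 12, (k - 1).val < 6 → (k - 2).val < 4 ∨ (k = 1 ∨ k = 6) := by decide
    exact this k hk
  · have : ∀ k : ZMod 12, (k - 2).val < 4 → (k - 2).val < 3 ∨ k = 5 := by decide
    exact this k hk
  · have : ∀ k : ZMod 12, (k - 2).val < 3 → (k = 2 ∨ k = 4) ∨ k = 3 := by decide
    exact this k hk
  · rcases hk with rfl | rfl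
    · exact Or.inr rfl
    · exact Or.inl rfl
  · exact Or.inr hk
  · exact absurd hk (Set.notMem_empty _)

theorem Tp_Lv {j : ℕ} {k : ZMod 12} (hk : Tp j k) : k ∈ Lv j := by
  rcases j with _ | _ | _ | _ | _ | j
  · have : ∀ k : ZMod 12, (k = 1 ∨ k = 6) → (k - 1).val < 6 := by decide
    exact this k hk
  · have : ∀ k : ZMod 12, k = 5 → (k - 2).val < 4 := by decide
    exact this k hk
  · have : ∀ k : ZMod 12, k = 3 → (k - 2).val < 3 := by decide
    exact this k hk
  · exact Or.inl hk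
  · exact hk
  · exact hk.elim

/-- the `F`-line through `x_k(s)` -/
def line (h : HexTwo σ x) (k : ZMod 12) (s : E) (hs : Ok σ k s) : Subgroup G where
  carrier := {y | ∃ t, σ t = t ∧ y = x k (t * s)}
  one_mem' := ⟨0, map_zero σ, by rw [zero_mul, h.x_zero]⟩
  mul_mem' := by
    rintro _ _ ⟨t, ht, rfl⟩ ⟨u, hu, rfl⟩
    exact ⟨t + u, by rw [map_add, ht, hu], by
      rw [add_mul, h.add k _ _ ((ok_of_fix k ht).mul hs) ((ok_of_fix k hu).mul hs)]⟩
  inv_mem' := by
    rintro _ ⟨t, ht, rfl⟩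
    exact ⟨t, ht, h.x_inv ((ok_of_fix k ht).mul hs)⟩

theorem mem_line {h : HexTwo σ x} {k : ZMod 12} {s : E} {hs : Ok σ k s} {y : G} :
    y ∈ line h k s hs ↔ ∃ t, σ t = t ∧ y = x k (t * s) := Iff.rfl

theorem self_mem_line {h : HexTwo σ x} {k : ZMod 12} {s : E} {hs : Ok σ k s} : x k s ∈ line h k s hs :=
  ⟨1, map_one σ, by rw [one_mul]⟩

theorem U_le_P {u : G} (hu : u ∈ UU σ x) : u ∈ gen σ x (arc 1 7) :=
  gen_mono (S := arc 1 6) (T := arc 1 7) (arc_mono (by norm_num)) hu

variable (h : HexTwo σ x)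
include h

/-- independence modulo the next level -/
theorem eq_zero_of_mem {j : ℕ} {k : ZMod 12} (hk : Tp j k) {s : E} (hs : Ok σ k s) (hm : x k s ∈ gen σ x (Lv (j + 1))) :
    s = 0 := by
  rcases j with _ | _ | _ | _ | _ | j
  · rcases hk with rfl | rfl
    · refine h.mem_first_eq_zero (k := 1) hs (gen_mono ?_ hm)
      intro l hl
      have : ∀ l : ZMod 12, (l - 2).val < 4 → (l - (1 + 1)).val < 5 := by decide
      exact this l hl
    · refine h.mem_last_eq_zero (k := 6) hs (gen_mono ?_ hm)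
      intro l hl
      have : ∀ l : ZMod 12, (l - 2).val < 4 → (l - (6 - 5)).val < 5 := by decide
      exact this l hl
  · have hk' : k = 5 := hk
    subst hk'
    refine h.mem_last_eq_zero (k := 5) hs (gen_mono ?_ hm)
    intro l hl
    have : ∀ l : ZMod 12, (l - 2).val < 3 → (l - (5 - 5)).val < 5 := by decide
    exact this l hl
  · have hk' : k = 3 := hk
    subst hk'
    obtain ⟨b, d, hb, hd, e⟩ := h.mem_24.1 hm
    rw [← h.q3 s] at e
    exact (h.q_inj (map_zero σ) (map_zero σ) (map_zero σ) hb hd (map_zero σ) e).2.1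
  · have hk' : k = 2 := hk
    subst hk'
    refine h.mem_first_eq_zero (k := 2) hs (gen_mono ?_ hm)
    rintro l rfl
    show ((4 : ZMod 12) - (2 + 1)).val < 5
    decide
  · have h1 : gen σ x (Lv (4 + 1)) ≤ ⊥ := gen_le fun l hl => absurd hl (Set.notMem_empty _)
    exact (h.x_eq_one hs).1 (mem_bot.1 (h1 hm))
  · exact hk.elim

omit h in
theorem arc234 {b c d e : E} (hb : σ b = b) (hd : σ d = d) : x 2 b * x 3 c * x 4 d * x 5 e ∈ gen σ x (arc 2 4) :=
  mul_mem (mul_mem (mul_mem (x_mem_gen (show ((2 : ZMod 12) - 2).val < 4 by decide) (ok_of_fix 2 hb))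
    (x_mem_gen (show ((3 : ZMod 12) - 2).val < 4 by decide) (ok_odd (by decide) c)))
    (x_mem_gen (show ((4 : ZMod 12) - 2).val < 4 by decide) (ok_of_fix 4 hd)))
    (x_mem_gen (show ((5 : ZMod 12) - 2).val < 4 by decide) (ok_odd (by decide) e))

/-- `[U, line] ≤` next level -/
theorem fix_line {j : ℕ} {k : ZMod 12} (hk : Tp j k) {s : E} (hs : Ok σ k s) {u : G} (hu : u ∈ UU σ x) :
    u * x k s * u⁻¹ * (x k s)⁻¹ ∈ gen σ x (Lv (j + 1)) := by
  have key : ∀ {w y : G}, u * y = w * y * u → u * y * u⁻¹ * y⁻¹ = w := by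
    intro w y e
    rw [e]; group
  rcases j with _ | _ | _ | _ | _ | j
  · show _ ∈ gen σ x (arc 2 4)
    rcases hk with rfl | rfl
    · obtain ⟨a, b, c, d, e, f, hb, hd, hf, rfl⟩ := h.mem_UU.1 hu
      have hx1 : x 1 s ∈ UU σ x := x_mem_gen (show ((1 : ZMod 12) - 1).val < 6 by decide) (ok_odd (by decide) s)
      obtain ⟨a₁, B, C, D, hB, hD, e1⟩ := h.uu_conj_q hx1 (b := b) (c := c) (d := d) (e := e) (f := f) hb hd hf
      set v := q x b c d e f with hv
      set v' := q x B C D (e + f * a₁) f with hv'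
      -- `v' v⁻¹ ∈ X₂X₃X₄X₅`
      have h1 : v' * v⁻¹ ∈ gen σ x (arc 2 4) := by
        have e2 : v' * v⁻¹ = (x 2 B * x 3 C * x 4 D * x 5 (e + f * a₁)) * (x 2 b * x 3 c * x 4 d * x 5 e)⁻¹ := by
          rw [hv, hv']; unfold q; group
        rw [e2]
        exact mul_mem (arc234 hB hD) (inv_mem (arc234 hb hd))
      have h2 : x 1 a * (v * v'⁻¹) * (x 1 a)⁻¹ ∈ gen σ x (arc 2 4) := by
        have e3 : v * v'⁻¹ = (v' * v⁻¹)⁻¹ := by group
        rw [e3]
        exact h.conj_first (k := 1) (n := 4) (by norm_num) (ok_odd (by decide) a) (inv_mem h1)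
      have hc : x 1 a * x 1 s = x 1 s * x 1 a := (h.x_comm_same (ok_odd (by decide) a) (ok_odd (by decide) s)).eq
      have e4 : uu x a b c d e f * x 1 s * (uu x a b c d e f)⁻¹ * (x 1 s)⁻¹ = x 1 a * (v * v'⁻¹) * (x 1 a)⁻¹ := by
        have e5 : x 1 s * v * (x 1 s)⁻¹ = v' := by rw [e1]; group
        unfold uu
        rw [← hv]
        calc x 1 a * v * x 1 s * (x 1 a * v)⁻¹ * (x 1 s)⁻¹
            = x 1 a * v * x 1 s * v⁻¹ * (x 1 s * x 1 a)⁻¹ := by group
          _ = x 1 a * v * x 1 s * v⁻¹ * (x 1 a * x 1 s)⁻¹ := by rw [hc]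
          _ = x 1 a * (v * (x 1 s * v * (x 1 s)⁻¹)⁻¹) * (x 1 a)⁻¹ := by group
          _ = _ := by rw [e5]
      rw [e4]
      exact h2
    · have hs' : σ s = s := hs (by decide)
      obtain ⟨a₁, B, C, D, hB, hD, e1⟩ := h.uu_conj_q hu (b := 0) (c := 0) (d := 0) (e := 0) (f := s) (map_zero σ)
        (map_zero σ) hs'
      rw [h.q6] at e1
      have e2 := key (w := x 2 B * x 3 C * x 4 D * x 5 (0 + s * a₁)) (y := x 6 s) (by rw [e1]; unfold q; group)
      rw [e2]
      exact arc234 hB hD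
  · show _ ∈ gen σ x (arc 2 3)
    have hk' : k = 5 := hk
    subst hk'
    obtain ⟨a₁, B, C, D, hB, hD, e1⟩ := h.uu_conj_q hu (b := 0) (c := 0) (d := 0) (e := s) (f := 0) (map_zero σ)
      (map_zero σ) (map_zero σ)
    rw [h.q5, zero_mul, add_zero] at e1
    have e2 := key (w := x 2 B * x 3 C * x 4 D) (y := x 5 s) (by rw [e1]; unfold q; rw [h.x_zero]; group)
    rw [e2]
    exact mul_mem (mul_mem (x_mem_gen (show ((2 : ZMod 12) - 2).val < 3 by decide) (ok_of_fix 2 hB))
      (x_mem_gen (show ((3 : ZMod 12) - 2).val < 3 by decide) (ok_odd (by decide) C)))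
      (x_mem_gen (show ((4 : ZMod 12) - 2).val < 3 by decide) (ok_of_fix 4 hD))
  · show _ ∈ gen σ x {2, 4}
    have hk' : k = 3 := hk
    subst hk'
    obtain ⟨a, b, c, d, e, f, hb, hd, hf, rfl⟩ := h.mem_UU.1 hu
    have e1 := h.uu_x3 (a := a) (b := b) (c := c) (d := d) (e := e) (f := f) hb hd hf s
    rw [h.q_234] at e1
    have hd4 := h.s34 s (t := trc σ s e) (h.fix_trc _ _)
    have e2 := key (w := x 2 (trc σ a s) * x 4 (trc σ s e)) (y := x 3 s) (by
      rw [e1]
      calc x 2 (trc σ a s) * x 3 s * x 4 (trc σ s e) * uu x a b c d e f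
          = x 2 (trc σ a s) * (x 3 s * x 4 (trc σ s e)) * uu x a b c d e f := by group
        _ = _ := by rw [hd4]; group)
    rw [e2]
    exact mul_mem (x_mem_gen (Or.inl rfl) (ok_of_fix 2 (h.fix_trc _ _)))
      (x_mem_gen (Or.inr rfl) (ok_of_fix 4 (h.fix_trc _ _)))
  · show _ ∈ gen σ x {4}
    have hk' : k = 2 := hk
    subst hk'
    have hs' : σ s = s := hs (by decide)
    obtain ⟨a, b, c, d, e, f, hb, hd, hf, rfl⟩ := h.mem_UU.1 hu
    have e1 := h.uu_q234 (a := a) (b := b) (c := c) (d := d) (e := e) (f := f) (B := s) (C := 0) (D := 0) hb hd hf hs'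
      (map_zero σ)
    rw [h.q2, trc_zero_right, trc_zero_left, add_zero, add_zero, zero_add, h.q_234, h.x_zero, mul_one] at e1
    have hd4 := h.s24 (t := s) (u := s * f) hs' (by rw [map_mul, hs', hf])
    have e2 := key (w := x 4 (s * f)) (y := x 2 s) (by rw [e1, hd4])
    rw [e2]
    exact x_mem_gen (Set.mem_singleton _) (ok_of_fix 4 (by rw [map_mul, hs', hf]))
  · have hk' : k = 4 := hk
    subst hk'
    have h1 : u ∈ gen σ x (arc 1 7) := U_le_P hu
    have h2 := Cfsg.Agent.HexStart.X4_comm h (z := x 4 s) (p := u) (x_mem_gen (Set.mem_singleton _) hs) h1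
    rw [h2]
    have e3 : x 4 s * u * u⁻¹ * (x 4 s)⁻¹ = 1 := by group
    rw [e3]
    exact one_mem _
  · exact hk.elim

/-! ### `star` -/

theorem eq_fix_mul {a e : E} (ha : a ≠ 0) (h0 : crs σ a e = 0) : ∃ r, σ r = r ∧ e = r * a := by
  refine ⟨e / a, ?_, by field_simp⟩
  have h1 : σ a ≠ 0 := (map_ne_zero σ).2 ha
  have h2 : σ (σ a) ≠ 0 := (map_ne_zero σ).2 h1
  have h3 : σ (σ e) / σ (σ a) = σ e / σ a := by
    rw [div_eq_div_iff h2 h1]
    unfold crs at h0
    have := h.add_self (σ (σ a) * σ e)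
    linear_combination h0 - this
  -- `r = e / a`: `σ² r = σ r`
  have h4 : σ (σ (e / a)) = σ (e / a) := by rw [map_div₀, map_div₀, h3]
  exact σ.injective h4

theorem trc_shp_self' (a : E) : trc σ (shp σ a) a = nrm σ a := by
  unfold trc shp nrm
  simp only [map_mul, h.cube]
  linear_combination (a * σ a * σ (σ a)) * h.two

/-- if `crs a e = 0`, `trc (shp a) e = 0`, `a ≠ 0`, then `e = 0` -/
theorem eq_zero_of_crs {a e : E} (ha : a ≠ 0) (h0 : crs σ a e = 0) (h1 : trc σ (shp σ a) e = 0) : e = 0 := by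
  obtain ⟨r, hr, rfl⟩ := eq_fix_mul h ha h0
  rw [trc_smul_right hr, trc_shp_self' h] at h1
  rcases mul_eq_zero.1 h1 with h2 | h2
  · rw [h2, zero_mul]
  · exact absurd h2 (nrm_ne_zero ha)

theorem star {j : ℕ} {k : ZMod 12} (hk : Tp j k) {s : E} (hs : Ok σ k s) (hs0 : s ≠ 0) {u : G} (hu : u ∈ UU σ x)
    (hc : u * x k s = x k s * u) {t : E} (ht : σ t = t) : u * x k (t * s) = x k (t * s) * u := by
  obtain ⟨a, b, c, d, e, f, hb, hd, hf, rfl⟩ := h.mem_UU.1 hu
  have z := map_zero σ
  -- the coordinates of the root elements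
  have r1 : ∀ y : E, x 1 y = uu x y 0 0 0 0 0 := fun y => (h.u1 y).symm
  have r2 : ∀ y : E, x 2 y = uu x 0 y 0 0 0 0 := fun y => by rw [h.uq, h.q2]
  have r3 : ∀ y : E, x 3 y = uu x 0 0 y 0 0 0 := fun y => by rw [h.uq, h.q3]
  have r5 : ∀ y : E, x 5 y = uu x 0 0 0 0 y 0 := fun y => by rw [h.uq, h.q5]
  have r6 : ∀ y : E, x 6 y = uu x 0 0 0 0 0 y := fun y => by rw [h.uq, h.q6]
  have shz : shp σ (0 : E) = 0 := shp_zero
  have nz : nrm σ (0 : E) = 0 := nrm_zero
  rcases j with _ | _ | _ | _ | _ | j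
  · rcases hk with rfl | rfl
    · -- `k = 1`
      rw [r1, h.uu_mul hb hd hf z z z, h.uu_mul z z z hb hd hf] at hc
      simp only [trc_zero_left, trc_zero_right, crs_zero_left, crs_zero_right, shz, nz, zero_mul, mul_zero, add_zero,
        zero_add, ne_eq, OfNat.ofNat_ne_zero, not_false_eq_true, zero_pow] at hc
      obtain ⟨-, e1, e2, e3, e4, -⟩ := h.uu_inj (by
        simp only [map_add, map_mul, h.fix_trc, h.fix_nrm, hb, hf]) (by
        simp only [map_add, map_mul, map_pow, h.fix_trc, h.fix_nrm, hd, hf]) hf hb hd hf hc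
      have hf0 : f = 0 := by
        have : f * s = 0 := by linear_combination e4
        exact (mul_eq_zero.1 this).resolve_right hs0
      subst hf0
      simp only [zero_mul, add_zero, ne_eq, OfNat.ofNat_ne_zero, not_false_eq_true, zero_pow] at e1 e2 e3
      have hcr : crs σ s e = 0 := by linear_combination e2
      obtain ⟨r, hr, hre⟩ := eq_fix_mul h hs0 hcr
      have he0 : e = 0 := by
        have h5 : trc σ s (shp σ e) = 0 := by linear_combination e3
        have h6 : shp σ e = r ^ 2 * shp σ s := by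
          rw [hre]; unfold shp; simp only [map_mul, hr]; ring
        rw [h6, trc_smul_right (by rw [map_pow, hr]), trc_comm, trc_shp_self' h] at h5
        rcases mul_eq_zero.1 h5 with h7 | h7
        · rw [hre, pow_eq_zero_iff (by norm_num) |>.1 h7, zero_mul]
        · exact absurd h7 (nrm_ne_zero hs0)
      subst he0
      have hT : trc σ s c = 0 := by
        rw [trc_zero_right] at e1
        linear_combination e1
      rw [r1, h.uu_mul hb hd z z z z, h.uu_mul z z z hb hd z]
      simp only [trc_zero_left, trc_zero_right, crs_zero_left, crs_zero_right, shz, nz, zero_mul, mul_zero, add_zero,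
        zero_add, ne_eq, OfNat.ofNat_ne_zero, not_false_eq_true, zero_pow]
      rw [trc_smul_left ht, hT, mul_zero, add_zero, add_comm a]
    · -- `k = 6`
      have hs' : σ s = s := hs (by decide)
      rw [r6, h.uu_mul hb hd hf z z hs', h.uu_mul z z hs' hb hd hf] at hc
      simp only [trc_zero_left, trc_zero_right, crs_zero_left, crs_zero_right, shz, nz, zero_mul, mul_zero, add_zero,
        zero_add, ne_eq, OfNat.ofNat_ne_zero, not_false_eq_true, zero_pow] at hc
      obtain ⟨-, e1, e2, e3, e4, -⟩ := h.uu_inj hb hd (by rw [map_add, hf, hs']) (by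
        simp only [map_add, map_mul, h.fix_trc, h.fix_nrm, hb, hs']) (by
        simp only [map_add, map_mul, map_pow, h.fix_trc, h.fix_nrm, hb, hd, hs']) (by rw [map_add, hf, hs']) hc
      have ha0 : a = 0 := by
        have : s * a = 0 := by linear_combination -e4
        exact (mul_eq_zero.1 this).resolve_left hs0
      subst ha0
      simp only [nz, shz, mul_zero, add_zero, zero_add, trc_zero_right] at e3
      have hb0 : b = 0 := by
        have : b * s = 0 := by linear_combination -e3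
        exact (mul_eq_zero.1 this).resolve_right hs0
      subst hb0
      rw [r6, h.uu_mul z hd hf z z (by rw [map_mul, ht, hs']), h.uu_mul z z (by rw [map_mul, ht, hs']) z hd hf]
      simp only [trc_zero_left, trc_zero_right, crs_zero_left, crs_zero_right, shz, nz, zero_mul, mul_zero, add_zero,
        zero_add]
      rw [add_comm f]
  · -- `k = 5`
    have hk' : k = 5 := hk
    subst hk'
    rw [r5, h.uu_mul hb hd hf z z z, h.uu_mul z z z hb hd hf] at hc
    simp only [trc_zero_left, trc_zero_right, crs_zero_left, crs_zero_right, shz, nz, zero_mul, mul_zero, add_zero,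
      zero_add, ne_eq, OfNat.ofNat_ne_zero, not_false_eq_true, zero_pow] at hc
    obtain ⟨-, e1, e2, e3, -, -⟩ := h.uu_inj hb hd hf (by
      simp only [map_add, h.fix_trc, hb]) (by
      simp only [map_add, h.fix_trc, hd]) hf hc
    have h1 : trc σ (shp σ a) s = 0 := by linear_combination -e1
    have h2 : crs σ a s = 0 := by linear_combination -e2
    have ha0 : a = 0 := by
      by_contra ha
      exact hs0 (eq_zero_of_crs h ha h2 h1)
    subst ha0
    have h3 : trc σ c s = 0 := by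
      rw [trc_zero_left] at e3
      linear_combination -e3
    rw [r5, h.uu_mul hb hd hf z z z, h.uu_mul z z z hb hd hf]
    simp only [trc_zero_left, trc_zero_right, crs_zero_left, crs_zero_right, shz, nz, zero_mul, mul_zero, add_zero,
      zero_add, ne_eq, OfNat.ofNat_ne_zero, not_false_eq_true, zero_pow]
    rw [trc_smul_right ht, h3, mul_zero, add_zero, add_comm e]
  · -- `k = 3`
    have hk' : k = 3 := hk
    subst hk'
    rw [r3, h.uu_mul hb hd hf z z z, h.uu_mul z z z hb hd hf] at hc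
    simp only [trc_zero_left, trc_zero_right, crs_zero_left, crs_zero_right, shz, nz, zero_mul, mul_zero, add_zero,
      zero_add, ne_eq, OfNat.ofNat_ne_zero, not_false_eq_true, zero_pow] at hc
    obtain ⟨-, e1, -, e3, -, -⟩ := h.uu_inj hb (by simp only [map_add, h.fix_trc, hd]) hf (by
      simp only [map_add, h.fix_trc, hb]) hd hf hc
    have h1 : trc σ a s = 0 := by linear_combination -e1
    have h3 : trc σ s e = 0 := by linear_combination e3
    rw [r3, h.uu_mul hb hd hf z z z, h.uu_mul z z z hb hd hf]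
    simp only [trc_zero_left, trc_zero_right, crs_zero_left, crs_zero_right, shz, nz, zero_mul, mul_zero, add_zero,
      zero_add, ne_eq, OfNat.ofNat_ne_zero, not_false_eq_true, zero_pow]
    rw [trc_smul_right ht, h1, trc_smul_left ht, h3, mul_zero, add_zero, zero_add, add_comm c]
  · -- `k = 2`
    have hk' : k = 2 := hk
    subst hk'
    have hs' : σ s = s := hs (by decide)
    rw [r2, h.uu_mul hb hd hf hs' z z, h.uu_mul hs' z z hb hd hf] at hc
    simp only [trc_zero_left, trc_zero_right, crs_zero_left, crs_zero_right, shz, nz, zero_mul, mul_zero, add_zero,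
      zero_add, ne_eq, OfNat.ofNat_ne_zero, not_false_eq_true, zero_pow] at hc
    obtain ⟨-, -, -, e3, -, -⟩ := h.uu_inj (by rw [map_add, hb, hs']) (by
      simp only [map_add, map_mul, hd, hs', hf]) hf (by rw [map_add, hb, hs']) hd hf hc
    have hf0 : f = 0 := by
      have : s * f = 0 := by linear_combination e3
      exact (mul_eq_zero.1 this).resolve_left hs0
    subst hf0
    rw [r2, h.uu_mul hb hd z (by rw [map_mul, ht, hs']) z z, h.uu_mul (by rw [map_mul, ht, hs']) z z hb hd z]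
    simp only [trc_zero_left, trc_zero_right, crs_zero_left, crs_zero_right, shz, nz, zero_mul, mul_zero, add_zero,
      zero_add, ne_eq, OfNat.ofNat_ne_zero, not_false_eq_true, zero_pow]
    rw [add_comm b]
  · have hk' : k = 4 := hk
    subst hk'
    exact Cfsg.Agent.HexStart.X4_comm h (z := x 4 (t * s)) (p := uu x a b c d e f)
      (x_mem_gen (Set.mem_singleton _) ((ok_of_fix 4 ht).mul hs)) (U_le_P hu)
  · exact hk.elim

end Cfsg.Agent.OddHalf.D4.HexFree
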